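import Mathlib
import Groth.Agent.Lib.Helper84.Affn.ChartNoeth

/-!
# Anti-affine groups act trivially on varieties with a fixed point (helper84)
-/

set_option autoImplicit false
set_option linter.unusedSectionVars false
universe u
open CategoryTheory CategoryTheory.Limits MonoidalCategory CartesianMonoidalCategory MonObj
  AlgebraicGeometry

namespace Groth.Agent.Lib.Helper84.Affn

variable {k : Type u} [Field k]

/-- for an anti-affine `k`-scheme the affinization is a point: any two morphisms to it agree. -/
theorem hom_affObj_ext (G : Over (Spec (CommRingCat.of k)))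
    (hG : Function.Bijective ((Scheme.ΓSpecIso (CommRingCat.of k)).inv ≫ G.hom.appTop).hom)
    {T : Over (Spec (CommRingCat.of k))} (f f' : T ⟶ affObj G) : f = f' := by
  have h1 : IsIso ((Scheme.ΓSpecIso (CommRingCat.of k)).inv ≫ G.hom.appTop) := by
    rw [ConcreteCategory.isIso_iff_bijective]
    exact hG
  have h2 : IsIso G.hom.appTop := by
    have : G.hom.appTop = (Scheme.ΓSpecIso (CommRingCat.of k)).hom ≫
        ((Scheme.ΓSpecIso (CommRingCat.of k)).inv ≫ G.hom.appTop) := by
      rw [← Category.assoc, Iso.hom_inv_id, Category.id_comp]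
    rw [this]
    infer_instance
  have h3 : IsIso (affObj G).hom := by
    show IsIso (Spec.map G.hom.appTop ≫ inv (Spec (CommRingCat.of k)).toSpecΓ)
    infer_instance
  apply Over.OverMorphism.ext
  rw [← cancel_mono (affObj G).hom, Over.w, Over.w]

/-- **an anti-affine group acts trivially on a variety with a fixed rational point.** -/
theorem act_eq_snd_of_antiAffine (G X : Over (Spec (CommRingCat.of k))) [GrpObj G]
    [LocallyOfFiniteType G.hom] [QuasiCompact G.hom]
    (hG : Function.Bijective ((Scheme.ΓSpecIso (CommRingCat.of k)).inv ≫ G.hom.appTop).hom)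
    [IsSeparated X.hom] [IsIntegral X.left] [IsLocallyNoetherian X.left]
    (a : AlgGrp.Action G X) (x : 𝟙_ (Over (Spec (CommRingCat.of k))) ⟶ X)
    (hx : a.IsFixedPt x) : a.act = snd G X := by
  obtain ⟨hc1, hc2⟩ := qcqs_of_grp G
  have h := act_eq_of_affMap_eq_noeth a x hx (fst G X) (hom_affObj_ext G hG _ _) (snd G X)
  rw [lift_fst_snd, Category.id_comp] at h
  exact h

end Groth.Agent.Lib.Helper84.Affn
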