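import Mathlib
import Groth.Prelude.Def_CoactBr
import Groth.Agent.Lib.Helper43.GaGm

/-!
# Points of affine space over a ring as tuples of global functions (helper84)
-/

set_option autoImplicit false
universe u
open CategoryTheory MonoidalCategory CartesianMonoidalCategory AlgebraicGeometry CoactBr

namespace Groth.Agent.Lib.Helper84.AffSp

open Groth.Agent.Lib.Helper43

variable {k : Type u} [CommRing k] {n : ℕ}

/-- affine `n`-space over `k`. -/
noncomputable abbrev An (k : Type u) [CommRing k] (n : ℕ) : Over (Spec (CommRingCat.of k)) :=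
  sp k (MvPolynomial (Fin n) k)

theorem An_hom : (An k n).hom =
    Spec.map (CommRingCat.ofHom (algebraMap k (MvPolynomial (Fin n) k))) := rfl

variable {T T' : Over (Spec (CommRingCat.of k))}

/-- the structure map of the ring of global functions of a `k`-scheme. -/
noncomputable def strHom (T : Over (Spec (CommRingCat.of k))) : k →+* Γ(T.left, ⊤) :=
  ptFnHom T.hom

theorem strHom_apply (c : k) : strHom T c = ptFn T.hom c := rfl

theorem strHom_comp (t : T' ⟶ T) (c : k) : t.left.appTop (strHom T c) = strHom T' c := by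
  show t.left.appTop (ptFn T.hom c) = ptFn T'.hom c
  rw [← ptFn_comp, Over.w]

/-- the underlying morphism to `Spec k[x₁, …, xₙ]` of a point of affine space. -/
noncomputable def toSpec (y : T ⟶ An k n) :
    T.left ⟶ Spec (CommRingCat.of (MvPolynomial (Fin n) k)) := y.left

theorem toSpec_w (y : T ⟶ An k n) :
    toSpec y ≫ Spec.map (CommRingCat.ofHom (algebraMap k (MvPolynomial (Fin n) k))) = T.hom :=
  Over.w y

/-- the point of affine space with underlying morphism `x`. -/
noncomputable def ofSpec (x : T.left ⟶ Spec (CommRingCat.of (MvPolynomial (Fin n) k)))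
    (hx : x ≫ Spec.map (CommRingCat.ofHom (algebraMap k (MvPolynomial (Fin n) k))) = T.hom) :
    T ⟶ An k n := Over.homMk x hx

theorem toSpec_ofSpec (x : T.left ⟶ Spec (CommRingCat.of (MvPolynomial (Fin n) k))) (hx) :
    toSpec (ofSpec x hx) = x := rfl

theorem toSpec_injective : Function.Injective (toSpec : (T ⟶ An k n) → _) := by
  intro y y' h
  apply Over.OverMorphism.ext
  exact h

theorem vecHom_w (v : Fin n → Γ(T.left, ⊤)) :
    ptOfHom (MvPolynomial.eval₂Hom (strHom T) v) ≫
      Spec.map (CommRingCat.ofHom (algebraMap k (MvPolynomial (Fin n) k))) = T.hom := by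
  apply ext_of_ptFnHom
  ext c
  rw [ptFnHom_apply, ptFn_specMap, ptFn_ptOfHom]
  show _ = ptFn T.hom c
  rw [← strHom_apply]
  simp

/-- the point of affine space with given coordinates. -/
noncomputable def vecPt (v : Fin n → Γ(T.left, ⊤)) : T ⟶ An k n :=
  ofSpec (ptOfHom (MvPolynomial.eval₂Hom (strHom T) v)) (vecHom_w v)

/-- the coordinates of a point of affine space. -/
noncomputable def coords (y : T ⟶ An k n) (i : Fin n) : Γ(T.left, ⊤) :=
  ptFn (toSpec y) (MvPolynomial.X i)

theorem coords_vecPt (v : Fin n → Γ(T.left, ⊤)) : coords (vecPt v) = v := by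
  ext i
  show ptFn (ptOfHom (MvPolynomial.eval₂Hom (strHom T) v)) (MvPolynomial.X i) = v i
  rw [ptFn_ptOfHom]
  simp

theorem ptFnHom_toSpec (y : T ⟶ An k n) :
    ptFnHom (toSpec y) = MvPolynomial.eval₂Hom (strHom T) (coords y) := by
  apply MvPolynomial.ringHom_ext
  · intro c
    rw [ptFnHom_apply, MvPolynomial.eval₂Hom_C]
    have h1 : (MvPolynomial.C c : MvPolynomial (Fin n) k) =
        algebraMap k (MvPolynomial (Fin n) k) c := rfl
    rw [h1, ← ptFn_specMap, toSpec_w]
    rfl
  · intro i
    rw [ptFnHom_apply, MvPolynomial.eval₂Hom_X']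
    rfl

theorem vecPt_coords (y : T ⟶ An k n) : vecPt (coords y) = y := by
  apply toSpec_injective
  show ptOfHom (MvPolynomial.eval₂Hom (strHom T) (coords y)) = toSpec y
  apply ext_of_ptFnHom
  rw [ptFnHom_toSpec]
  apply RingHom.ext
  intro a
  rw [ptFnHom_apply, ptFn_ptOfHom]

theorem coords_injective : Function.Injective (coords : (T ⟶ An k n) → Fin n → Γ(T.left, ⊤)) := by
  intro y y' h
  rw [← vecPt_coords y, ← vecPt_coords y', h]

theorem coords_comp (t : T' ⟶ T) (y : T ⟶ An k n) (i : Fin n) :
    coords (t ≫ y) i = t.left.appTop (coords y i) := by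
  show ptFn (t.left ≫ toSpec y) _ = _
  rw [ptFn_comp]
  rfl

theorem comp_vecPt (t : T' ⟶ T) (v : Fin n → Γ(T.left, ⊤)) :
    t ≫ vecPt v = vecPt (fun i => t.left.appTop (v i)) := by
  apply coords_injective
  ext i
  rw [coords_comp, coords_vecPt, coords_vecPt]

end Groth.Agent.Lib.Helper84.AffSp
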