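import Mathlib
import Groth.Prelude.Def_AlgGrp
import Groth.Agent.Lib.Helper84.AffSp.Points
import Groth.Agent.Lib.Helper84.GLnSch
import Groth.Agent.Lib.Helper58.TrivAct4
import Groth.Agent.Lib.Helper27.GeomIrrPoly

/-!
# The linear action on affine space attached to a homomorphism to `GL_n` (helper84)
-/

set_option autoImplicit false
set_option linter.unusedSectionVars false
universe u
open CategoryTheory MonoidalCategory CartesianMonoidalCategory MonObj AlgebraicGeometry CoactBr

namespace Groth.Agent.Lib.Helper84.AffSp

open Groth.Agent.Lib.Helper43 Groth.Agent.Lib.Helper84.GLnSch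

variable {k : Type u} [CommRing k] {n : ℕ} {G : Over (Spec (CommRingCat.of k))} [GrpObj G]
  (ρ : G ⟶ FrB.GLn n (Spec (CommRingCat.of k)))

/-- the morphism `(g, v) ↦ ρ(g) v`. -/
noncomputable def linMor : G ⊗ An k n ⟶ An k n :=
  vecPt ((glMat (fst G (An k n) ≫ ρ)).mulVec (coords (snd G (An k n))))

theorem coords_lift_linMor {T : Over (Spec (CommRingCat.of k))} (g : T ⟶ G) (y : T ⟶ An k n) :
    coords (lift g y ≫ linMor ρ) = (glMat (g ≫ ρ)).mulVec (coords y) := by
  rw [linMor, comp_vecPt, coords_vecPt]
  ext i
  simp only [Matrix.mulVec, dotProduct, map_sum, map_mul]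
  refine Finset.sum_congr rfl fun j _ => ?_
  have h1 : (lift g y).left.appTop (glMat (fst G (An k n) ≫ ρ) i j) = glMat (g ≫ ρ) i j := by
    have := glMat_comp (lift g y) (fst G (An k n) ≫ ρ)
    rw [← Category.assoc, lift_fst] at this
    rw [this]
    rfl
  have h2 : (lift g y).left.appTop (coords (snd G (An k n)) j) = coords y j := by
    rw [← coords_comp, lift_snd]
  rw [h1, h2]

variable [IsMonHom ρ]

/-- the linear action of `G` on affine space through `ρ`. -/
noncomputable def linAction : AlgGrp.Action G (An k n) :=
  Groth.Agent.Lib.Helper58.TrivAct4.mkAction (linMor ρ)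
    (by
      intro T x
      apply coords_injective
      rw [coords_lift_linMor, Category.assoc, IsMonHom.one_hom ρ, ← Hom.one_def, glMat_one,
        Matrix.one_mulVec])
    (by
      intro T g h x
      apply coords_injective
      rw [coords_lift_linMor, coords_lift_linMor, coords_lift_linMor, MonObj.mul_comp, glMat_mul,
        Matrix.mulVec_mulVec])

theorem linAction_act : (linAction ρ).act = linMor ρ := rfl

theorem isFixedPt_zero : (linAction ρ).IsFixedPt (vecPt 0) := by
  intro T g
  apply coords_injective
  rw [linAction_act, coords_lift_linMor, comp_vecPt, coords_vecPt]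
  ext i
  simp [Matrix.mulVec, dotProduct]

theorem eq_one_of_act_eq_snd (h : (linAction ρ).act = snd G (An k n)) : ρ = 1 := by
  apply glMat_injective
  rw [glMat_one]
  ext i j
  have h1 : lift (𝟙 G) (vecPt (Pi.single j 1)) ≫ (linAction ρ).act =
      (vecPt (Pi.single j 1) : G ⟶ An k n) := by
    rw [h, lift_snd]
  have h2 := congrArg coords h1
  rw [linAction_act, coords_lift_linMor, coords_vecPt, Category.id_comp,
    Matrix.mulVec_single_one] at h2
  have h3 : glMat ρ i j = (Pi.single j 1 : Fin n → Γ(G.left, ⊤)) i := congrFun h2 i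
  rw [h3, Matrix.one_apply, Pi.single_apply]

end Groth.Agent.Lib.Helper84.AffSp
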