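import Mathlib
import Groth.Agent.Lib.Helper84.AffSp.Points
import Groth.Agent.Lib.Helper27.GeomIrrPoly

/-!
# Affine space over a field is a geometrically integral variety (helper84)
-/

set_option autoImplicit false
universe u
open CategoryTheory AlgebraicGeometry CoactBr TensorProduct

namespace Groth.Agent.Lib.Helper84.AffSp

variable {k : Type u} [Field k] (n : ℕ)

instance locallyOfFiniteType_An : LocallyOfFiniteType (An k n).hom := by
  show LocallyOfFiniteType (Spec.map (CommRingCat.ofHom (algebraMap k (MvPolynomial (Fin n) k))))
  rw [HasRingHomProperty.Spec_iff (P := @LocallyOfFiniteType)]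
  exact RingHom.finiteType_algebraMap.mpr inferInstance

instance quasiCompact_An : QuasiCompact (An k n).hom := by
  show QuasiCompact (Spec.map (CommRingCat.ofHom (algebraMap k (MvPolynomial (Fin n) k))))
  infer_instance

instance isSeparated_An : IsSeparated (An k n).hom := by
  show IsSeparated (Spec.map (CommRingCat.ofHom (algebraMap k (MvPolynomial (Fin n) k))))
  infer_instance

instance geometricallyIntegral_An : GeometricallyIntegral (An k n).hom := by
  show GeometricallyIntegral
    (Spec.map (CommRingCat.ofHom (algebraMap k (MvPolynomial (Fin n) k))))
  rw [Groth.Agent.Lib.Helper27.GeomIrrPoly.geometricallyIntegral_spec_iff]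
  intro K _ _
  let e := MvPolynomial.algebraTensorAlgEquiv (R := k) (σ := Fin n) (A := K)
  exact Function.Injective.isDomain e.toRingEquiv.toRingHom e.injective

instance isIntegral_An : IsIntegral (An k n).left := by
  have : IsDomain (MvPolynomial (Fin n) k) := inferInstance
  exact (affine_isIntegral_iff _).mpr this

end Groth.Agent.Lib.Helper84.AffSp
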